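import Groth.Agent.An.H863.PtsBasic
import Mathlib.AlgebraicGeometry.AffineScheme

/-!
# The complex topology on `An.Pts X`: continuity criterion through affine charts

* `evAt` : total version of evaluation (0 off the open set); continuity of `evAt` in the point;
* `continuousAt_iff` : continuity of a map into `An.Pts X` in terms of `evAt`;
* `continuousAt_of_affine` : it suffices to test on generators of the sections on one affine chart.
-/

set_option autoImplicit false
open CategoryTheory AlgebraicGeometry Topology TopologicalSpace Opposite Filter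
open Groth.Agent.An.H863.PtsBasic

noncomputable section

namespace Groth.Agent.An.H863.PtsCont

variable {X : Scheme.{0}} [X.Over An.SC]

open Classical in
/-- Total version of evaluation: the value of f at x if x lies in U, and 0 otherwise. -/
def evAt (x : An.Pts X) (U : X.Opens) (f : Γ(X, U)) : ℂ :=
  if h : x.pt ∈ U then x.ev U h f else 0

lemma evAt_of_mem {x : An.Pts X} {U : X.Opens} (h : x.pt ∈ U) (f : Γ(X, U)) :
    evAt x U f = x.ev U h f := dif_pos h

lemma evAt_of_notMem {x : An.Pts X} {U : X.Opens} (h : x.pt ∉ U) (f : Γ(X, U)) :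
    evAt x U f = 0 := dif_neg h

@[simp] lemma evAt_top (x : An.Pts X) (f : Γ(X, ⊤)) : evAt x ⊤ f = x.evTop f :=
  evAt_of_mem (Opens.mem_top _) f

@[simp] lemma evAt_add (x : An.Pts X) (U : X.Opens) (f g : Γ(X, U)) :
    evAt x U (f + g) = evAt x U f + evAt x U g := by
  by_cases h : x.pt ∈ U
  · simp [evAt_of_mem h]
  · simp [evAt_of_notMem h]

@[simp] lemma evAt_mul (x : An.Pts X) (U : X.Opens) (f g : Γ(X, U)) :
    evAt x U (f * g) = evAt x U f * evAt x U g := by
  by_cases h : x.pt ∈ U
  · simp [evAt_of_mem h]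
  · simp [evAt_of_notMem h]

@[simp] lemma evAt_neg (x : An.Pts X) (U : X.Opens) (f : Γ(X, U)) :
    evAt x U (-f) = -evAt x U f := by
  by_cases h : x.pt ∈ U
  · simp [evAt_of_mem h]
  · simp [evAt_of_notMem h]

@[simp] lemma evAt_zero (x : An.Pts X) (U : X.Opens) : evAt x U 0 = 0 := by
  by_cases h : x.pt ∈ U
  · simp [evAt_of_mem h]
  · simp [evAt_of_notMem h]

lemma basicSet_eq (U : X.Opens) (f : Γ(X, U)) (V : Set ℂ) :
    An.Pts.basicSet U f V = {x | x.pt ∈ U ∧ evAt x U f ∈ V} := by
  ext x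
  constructor
  · rintro ⟨h, hv⟩
    exact ⟨h, by rwa [evAt_of_mem h]⟩
  · rintro ⟨h, hv⟩
    exact ⟨h, by rwa [evAt_of_mem h] at hv⟩

/-- Evaluation of a section over U is continuous at every point of U(ℂ). -/
lemma continuousAt_evAt (U : X.Opens) (f : Γ(X, U)) {x : An.Pts X} (h : x.pt ∈ U) :
    ContinuousAt (fun y : An.Pts X => evAt y U f) x := by
  rw [ContinuousAt, tendsto_nhds]
  intro V hV hx
  have h1 : x ∈ An.Pts.basicSet U f V := by rw [basicSet_eq]; exact ⟨h, hx⟩
  filter_upwards [(An.Pts.isOpen_basicSet U f hV).mem_nhds h1] with y hy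
  rw [basicSet_eq] at hy
  exact hy.2

lemma continuousOn_evAt (U : X.Opens) (f : Γ(X, U)) :
    ContinuousOn (fun y : An.Pts X => evAt y U f) (An.Pts.pt ⁻¹' (U : Set X)) :=
  fun _ hx => (continuousAt_evAt U f hx).continuousWithinAt

lemma continuous_evTop (f : Γ(X, ⊤)) : Continuous (fun y : An.Pts X => y.evTop f) := by
  rw [continuous_iff_continuousAt]
  intro x
  have := continuousAt_evAt ⊤ f (x := x) (Opens.mem_top _)
  simpa using this

/-- Continuity at a point of a map into `An.Pts X`. -/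
lemma continuousAt_iff {T : Type*} [TopologicalSpace T] (φ : T → An.Pts X) (t₀ : T) :
    ContinuousAt φ t₀ ↔ ∀ (W : X.Opens) (f : Γ(X, W)), (φ t₀).pt ∈ W →
      (∀ᶠ t in 𝓝 t₀, (φ t).pt ∈ W) ∧ ContinuousAt (fun t => evAt (φ t) W f) t₀ := by
  constructor
  · intro hφ W f hW
    exact ⟨hφ.eventually ((An.Pts.isOpen_preimage_pt W).mem_nhds hW),
      ContinuousAt.comp (f := φ) (g := fun y => evAt y W f) (continuousAt_evAt W f hW) hφ⟩
  · intro H
    rw [ContinuousAt, TopologicalSpace.tendsto_nhds_generateFrom_iff]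
    rintro _ ⟨W, f, V, hV, rfl⟩ hmem
    rw [basicSet_eq] at hmem ⊢
    obtain ⟨h1, h2⟩ := H W f hmem.1
    filter_upwards [h1, h2.eventually (hV.mem_nhds hmem.2)] with t ht1 ht2
    exact ⟨ht1, ht2⟩

/-- The set of sections over U whose evaluation along φ is continuous at t₀ is a subring. -/
def contSubring {T : Type*} [TopologicalSpace T] (φ : T → An.Pts X) (t₀ : T) (U : X.Opens)
    (hU : ∀ᶠ t in 𝓝 t₀, (φ t).pt ∈ U) : Subring Γ(X, U) where
  carrier := {f | ContinuousAt (fun t => evAt (φ t) U f) t₀}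
  mul_mem' {f g} hf hg := by
    rw [Set.mem_ofPred]
    simp only [evAt_mul]
    exact ContinuousAt.mul (Set.mem_ofPred.mp hf) (Set.mem_ofPred.mp hg)
  one_mem' := by
    rw [Set.mem_ofPred]
    refine ContinuousAt.congr (f := fun _ => (1 : ℂ)) continuousAt_const ?_
    filter_upwards [hU] with t ht
    rw [evAt_of_mem ht, ev_one]
  add_mem' {f g} hf hg := by
    rw [Set.mem_ofPred]
    simp only [evAt_add]
    exact ContinuousAt.add (Set.mem_ofPred.mp hf) (Set.mem_ofPred.mp hg)
  zero_mem' := by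
    rw [Set.mem_ofPred]
    simpa using continuousAt_const
  neg_mem' {f} hf := by
    rw [Set.mem_ofPred]
    simp only [evAt_neg]
    exact ContinuousAt.neg (Set.mem_ofPred.mp hf)

/-- Constants have continuous evaluation. -/
lemma continuousAt_evAt_strU {T : Type*} [TopologicalSpace T] (φ : T → An.Pts X) (t₀ : T)
    (U : X.Opens) (hU : ∀ᶠ t in 𝓝 t₀, (φ t).pt ∈ U) (c : ℂ) :
    ContinuousAt (fun t => evAt (φ t) U (strU U c)) t₀ := by
  refine ContinuousAt.congr (f := fun _ => c) continuousAt_const ?_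
  filter_upwards [hU] with t ht
  rw [evAt_of_mem ht, ev_strU]

/-- If evaluation of all sections over an affine chart U around φ t₀ is continuous at t₀, then φ is
continuous at t₀. -/
lemma continuousAt_of_affine_all {T : Type*} [TopologicalSpace T] (φ : T → An.Pts X) (t₀ : T)
    (U : X.Opens) (hUa : IsAffineOpen U) (hU : ∀ᶠ t in 𝓝 t₀, (φ t).pt ∈ U)
    (hf : ∀ f : Γ(X, U), ContinuousAt (fun t => evAt (φ t) U f) t₀) :
    ContinuousAt φ t₀ := by
  rw [continuousAt_iff]
  intro W f hW
  have hU0 : (φ t₀).pt ∈ U := hU.self_of_nhds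
  obtain ⟨h, hh, hx⟩ := hUa.exists_basicOpen_le (V := W) ⟨(φ t₀).pt, hW⟩ hU0
  change (φ t₀).pt ∈ X.basicOpen h at hx
  have hev : ∀ᶠ t in 𝓝 t₀, (φ t).pt ∈ X.basicOpen h := by
    have h0 : evAt (φ t₀) U h ≠ 0 := by
      rw [evAt_of_mem hU0, ev_ne_zero_iff]; exact hx
    filter_upwards [hU, (hf h).eventually_ne h0] with t ht1 ht2
    rwa [evAt_of_mem ht1, ev_ne_zero_iff] at ht2
  refine ⟨hev.mono fun t ht => hh ht, ?_⟩
  -- f restricted to D(h) is a fraction a / h^n
  have := hUa.isLocalization_basicOpen h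
  obtain ⟨n, a, ha⟩ := IsLocalization.Away.surj h (X.presheaf.map (homOfLE hh).op f)
  have hle : X.basicOpen h ≤ U := X.basicOpen_le h
  have hres : ∀ g : Γ(X, U), algebraMap Γ(X, U) Γ(X, X.basicOpen h) g =
      X.presheaf.map (homOfLE hle).op g := fun g => rfl
  have key : ∀ t, (φ t).pt ∈ X.basicOpen h →
      evAt (φ t) W f = evAt (φ t) U a / evAt (φ t) U h ^ n := by
    intro t ht
    have htU : (φ t).pt ∈ U := hle ht
    have htW : (φ t).pt ∈ W := hh ht
    have hne : (φ t).ev U htU h ≠ 0 := by rw [ev_ne_zero_iff]; exact ht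
    rw [evAt_of_mem htU, evAt_of_mem htU, evAt_of_mem htW]
    rw [eq_div_iff (pow_ne_zero n hne)]
    have e := congrArg (fun s => (φ t).ev (X.basicOpen h) ht s) ha
    simp only [hres, ev_mul, ev_pow, ev_res] at e
    exact e
  refine ContinuousAt.congr (f := fun t => evAt (φ t) U a / evAt (φ t) U h ^ n) ?_ ?_
  · refine ContinuousAt.div (hf a) ((hf h).pow n) (pow_ne_zero n ?_)
    rw [evAt_of_mem hU0, ev_ne_zero_iff]; exact hx
  · filter_upwards [hev] with t ht
    exact (key t ht).symm

/-- Continuity criterion: it suffices to test on a set generating the sections over an affine chart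
as a ring (constants included in the set if necessary, see `continuousAt_of_affine_gen`). -/
lemma continuousAt_of_affine {T : Type*} [TopologicalSpace T] (φ : T → An.Pts X) (t₀ : T)
    (U : X.Opens) (hUa : IsAffineOpen U) (hU : ∀ᶠ t in 𝓝 t₀, (φ t).pt ∈ U)
    (G : Set Γ(X, U)) (hG : Subring.closure G = ⊤)
    (hf : ∀ f ∈ G, ContinuousAt (fun t => evAt (φ t) U f) t₀) :
    ContinuousAt φ t₀ := by
  refine continuousAt_of_affine_all φ t₀ U hUa hU ?_
  have : (⊤ : Subring Γ(X, U)) ≤ contSubring φ t₀ U hU := by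
    rw [← hG, Subring.closure_le]
    exact hf
  intro f
  exact this (Subring.mem_top f)

/-- Continuity criterion with generators as a ℂ-algebra, in the form of a surjection from a
polynomial ring. -/
lemma continuousAt_of_affine_gen {T : Type*} [TopologicalSpace T] (φ : T → An.Pts X) (t₀ : T)
    (U : X.Opens) (hUa : IsAffineOpen U) (hU : ∀ᶠ t in 𝓝 t₀, (φ t).pt ∈ U)
    {ι : Type*} (s : ι → Γ(X, U)) (hs : Function.Surjective (MvPolynomial.eval₂Hom (strU U) s))
    (hf : ∀ i, ContinuousAt (fun t => evAt (φ t) U (s i)) t₀) :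
    ContinuousAt φ t₀ := by
  refine continuousAt_of_affine φ t₀ U hUa hU (Set.range (strU U) ∪ Set.range s) ?_ ?_
  · rw [eq_top_iff]
    intro f _
    obtain ⟨p, rfl⟩ := hs f
    induction p using MvPolynomial.induction_on with
    | C c =>
      rw [MvPolynomial.coe_eval₂Hom, MvPolynomial.eval₂_C]
      exact Subring.subset_closure (Or.inl ⟨c, rfl⟩)
    | add p q hp hq =>
      rw [map_add]
      exact Subring.add_mem _ (hp trivial) (hq trivial)
    | mul_X p i hp =>
      rw [map_mul, MvPolynomial.coe_eval₂Hom, MvPolynomial.eval₂_X]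
      exact Subring.mul_mem _ (hp trivial) (Subring.subset_closure (Or.inr ⟨i, rfl⟩))
  · rintro _ (⟨c, rfl⟩ | ⟨i, rfl⟩)
    · exact continuousAt_evAt_strU φ t₀ U hU c
    · exact hf i

end Groth.Agent.An.H863.PtsCont
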