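import Groth.Agent.An.H863.PtsCont
import Mathlib.AlgebraicGeometry.Morphisms.Flat

/-!
# Complex points of a fibre product

The canonical map `(X ×_S Y)(ℂ) → X(ℂ) ×_{S(ℂ)} Y(ℂ)` is a homeomorphism.  This holds without
finiteness hypotheses.
-/

set_option autoImplicit false
open CategoryTheory AlgebraicGeometry Topology TopologicalSpace Opposite Filter
open Groth.Agent.An.H863.PtsBasic Groth.Agent.An.H863.PtsCont

noncomputable section

namespace Groth.Agent.An.H863.PtsPullback

/-- A pushout of commutative rings is generated by the images of the two factors. -/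
lemma closure_range_union_eq_top {R A B P : CommRingCat.{0}} {f : R ⟶ A} {g : R ⟶ B}
    {inl : A ⟶ P} {inr : B ⟶ P} (h : IsPushout f g inl inr) :
    Subring.closure (Set.range inl ∪ Set.range inr) = ⊤ := by
  set S : Subring P := Subring.closure (Set.range inl ∪ Set.range inr) with hS
  let inl' : A ⟶ CommRingCat.of S := CommRingCat.ofHom
    (inl.hom.codRestrict S (fun a => Subring.subset_closure (Or.inl ⟨a, rfl⟩)))
  let inr' : B ⟶ CommRingCat.of S := CommRingCat.ofHom
    (inr.hom.codRestrict S (fun a => Subring.subset_closure (Or.inr ⟨a, rfl⟩)))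
  have hcomm : f ≫ inl' = g ≫ inr' := by
    ext a
    have h1 : inl (f a) = inr (g a) := ConcreteCategory.congr_hom h.w a
    exact h1
  let ι : CommRingCat.of S ⟶ P := CommRingCat.ofHom S.subtype
  have hid : h.desc inl' inr' hcomm ≫ ι = 𝟙 P := by
    apply h.hom_ext
    · rw [← Category.assoc, h.inl_desc, Category.comp_id]
      rfl
    · rw [← Category.assoc, h.inr_desc, Category.comp_id]
      rfl
  rw [eq_top_iff]
  intro p _
  have hp : ι (h.desc inl' inr' hcomm p) = p := ConcreteCategory.congr_hom hid p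
  rw [← hp]
  exact (h.desc inl' inr' hcomm p).2

variable {X Y : Scheme.{0}} [X.Over An.SC] [Y.Over An.SC]

/-- evAt along a morphism over ℂ, for appLE. -/
lemma evAt_appLE (g : X ⟶ Y) [g.IsOver An.SC] (x : An.Pts X) (U : Y.Opens) (V : X.Opens)
    (e : V ≤ g ⁻¹ᵁ U) (hV : x.pt ∈ V) (f : Γ(Y, U)) :
    evAt x V (g.appLE U V e f) = evAt (An.Pts.map g x) U f := by
  have h1 : (An.Pts.map g x).pt ∈ U := by rw [An.Pts.pt_map]; exact e hV
  rw [evAt_of_mem hV, evAt_of_mem h1, An.Pts.ev_map]
  unfold Scheme.Hom.appLE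
  rw [CommRingCat.comp_apply]
  exact ev_res x e hV _

variable {S : Scheme.{0}} [S.Over An.SC] (f : X ⟶ S) (g : Y ⟶ S) [f.IsOver An.SC] [g.IsOver An.SC]

/-- Lift of a compatible pair of points to the fibre product. -/
def lift (q : {q : An.Pts X × An.Pts Y // An.Pts.map f q.1 = An.Pts.map g q.2}) :
    An.Pts (Limits.pullback f g) :=
  ⟨Limits.pullback.lift q.1.1.1 q.1.2.1 (congrArg Subtype.val q.2), by
    change _ ≫ (Limits.pullback.fst f g ≫ X ↘ An.SC) = _
    rw [Limits.pullback.lift_fst_assoc]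
    exact q.1.1.2⟩

lemma map_fst_lift (q : {q : An.Pts X × An.Pts Y // An.Pts.map f q.1 = An.Pts.map g q.2}) :
    An.Pts.map (Limits.pullback.fst f g) (lift f g q) = q.1.1 :=
  Subtype.ext (Limits.pullback.lift_fst _ _ _)

lemma map_snd_lift (q : {q : An.Pts X × An.Pts Y // An.Pts.map f q.1 = An.Pts.map g q.2}) :
    An.Pts.map (Limits.pullback.snd f g) (lift f g q) = q.1.2 :=
  Subtype.ext (Limits.pullback.lift_snd _ _ _)

lemma lift_map (z : An.Pts (Limits.pullback f g)) :
    lift f g ⟨(An.Pts.map (Limits.pullback.fst f g) z, An.Pts.map (Limits.pullback.snd f g) z),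
        An.Pts.map_pullback_condition f g z⟩ = z := by
  apply Subtype.ext
  apply Limits.pullback.hom_ext
  · exact Limits.pullback.lift_fst _ _ _
  · exact Limits.pullback.lift_snd _ _ _

lemma continuous_lift : Continuous (lift f g) := by
  rw [continuous_iff_continuousAt]
  intro q₀
  set z₀ := lift f g q₀ with hz₀
  -- choose affine charts
  let s₀ : S := f q₀.1.1.pt
  have hs₀ : g q₀.1.2.pt = s₀ := by
    change g q₀.1.2.pt = f q₀.1.1.pt
    rw [← An.Pts.pt_map, ← An.Pts.pt_map, q₀.2]
  obtain ⟨_, ⟨US, hUS, rfl⟩, hsU, -⟩ :=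
    S.isBasis_affineOpens.exists_subset_of_mem_open (Set.mem_univ s₀) isOpen_univ
  obtain ⟨_, ⟨UX, hUX, rfl⟩, hxU, hUXS⟩ :=
    X.isBasis_affineOpens.exists_subset_of_mem_open (a := q₀.1.1.pt) (u := (f ⁻¹ᵁ US : X.Opens))
      hsU (f ⁻¹ᵁ US).isOpen
  obtain ⟨_, ⟨UY, hUY, rfl⟩, hyU, hUYS⟩ :=
    Y.isBasis_affineOpens.exists_subset_of_mem_open (a := q₀.1.2.pt) (u := (g ⁻¹ᵁ US : Y.Opens))
      (by change g q₀.1.2.pt ∈ US; rw [hs₀]; exact hsU) (g ⁻¹ᵁ US).isOpen
  have hUXS' : UX ≤ f ⁻¹ᵁ US := hUXS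
  have hUYS' : UY ≤ g ⁻¹ᵁ US := hUYS
  let W : (Limits.pullback f g).Opens :=
    Limits.pullback.fst f g ⁻¹ᵁ UX ⊓ Limits.pullback.snd f g ⁻¹ᵁ UY
  have H : IsPullback (Limits.pullback.fst f g) (Limits.pullback.snd f g) f g :=
    IsPullback.of_hasPullback f g
  have hW : IsAffineOpen W := by
    have : IsAffine _ := hUS
    have : IsAffine _ := hUX
    have : IsAffine _ := hUY
    exact .of_isIso (Scheme.Hom.isPullback_resLE H hUYS' hUXS' rfl).isoPullback.hom
  have hpush := (isIso_pushoutSection_iff H hUYS' hUXS' (UY := W) rfl).mp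
    (isIso_pushoutSection_of_isAffineOpen H hUYS' hUXS' rfl hUS hUY hUX)
  have hgen := closure_range_union_eq_top hpush
  have hmemW : ∀ q, (lift f g q).pt ∈ W ↔ q.1.1.pt ∈ UX ∧ q.1.2.pt ∈ UY := by
    intro q
    have h1 : Limits.pullback.fst f g (lift f g q).pt = q.1.1.pt := by
      rw [← An.Pts.pt_map, map_fst_lift]
    have h2 : Limits.pullback.snd f g (lift f g q).pt = q.1.2.pt := by
      rw [← An.Pts.pt_map, map_snd_lift]
    change (Limits.pullback.fst f g (lift f g q).pt ∈ UX ∧
      Limits.pullback.snd f g (lift f g q).pt ∈ UY) ↔ _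
    rw [h1, h2]
  have hc1 : Continuous (fun q : {q : An.Pts X × An.Pts Y // An.Pts.map f q.1 = An.Pts.map g q.2} =>
      q.1.1) := continuous_fst.comp continuous_subtype_val
  have hc2 : Continuous (fun q : {q : An.Pts X × An.Pts Y // An.Pts.map f q.1 = An.Pts.map g q.2} =>
      q.1.2) := continuous_snd.comp continuous_subtype_val
  have hev : ∀ᶠ q in 𝓝 q₀, (lift f g q).pt ∈ W := by
    have e1 := hc1.continuousAt.eventually ((An.Pts.isOpen_preimage_pt UX).mem_nhds hxU)
    have e2 := hc2.continuousAt.eventually ((An.Pts.isOpen_preimage_pt UY).mem_nhds hyU)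
    filter_upwards [e1, e2] with q h1 h2
    exact (hmemW q).2 ⟨h1, h2⟩
  refine continuousAt_of_affine (lift f g) q₀ W hW hev _ hgen ?_
  rintro _ (⟨a, rfl⟩ | ⟨b, rfl⟩)
  · refine ContinuousAt.congr (f := fun q => evAt q.1.1 UX a) ?_ ?_
    · exact ContinuousAt.comp (g := fun x => evAt x UX a) (continuousAt_evAt UX a hxU)
        hc1.continuousAt
    · filter_upwards [hev] with q hq
      rw [evAt_appLE (Limits.pullback.fst f g) (lift f g q) UX W _ hq a, map_fst_lift]
  · refine ContinuousAt.congr (f := fun q => evAt q.1.2 UY b) ?_ ?_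
    · exact ContinuousAt.comp (g := fun x => evAt x UY b) (continuousAt_evAt UY b hyU)
        hc2.continuousAt
    · filter_upwards [hev] with q hq
      rw [evAt_appLE (Limits.pullback.snd f g) (lift f g q) UY W _ hq b, map_snd_lift]

/-- The homeomorphism between complex points of the fibre product and the fibre product of the
spaces of complex points. -/
def homeo : An.Pts (Limits.pullback f g) ≃ₜ
    {q : An.Pts X × An.Pts Y // An.Pts.map f q.1 = An.Pts.map g q.2} where
  toFun z := ⟨(An.Pts.map (Limits.pullback.fst f g) z, An.Pts.map (Limits.pullback.snd f g) z),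
        An.Pts.map_pullback_condition f g z⟩
  invFun := lift f g
  left_inv := lift_map f g
  right_inv q := Subtype.ext (Prod.ext (map_fst_lift f g q) (map_snd_lift f g q))
  continuous_toFun := Continuous.subtype_mk
    ((An.Pts.continuous_map _).prodMk (An.Pts.continuous_map _)) _
  continuous_invFun := continuous_lift f g

end Groth.Agent.An.H863.PtsPullback
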