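import Groth.Prelude.Def_AnPts
import Mathlib.AlgebraicGeometry.AlgClosed.Basic
import Mathlib.Analysis.Complex.Polynomial.Basic

/-!
# Basic facts on complex points `An.Pts X`

* `ev` as a ring homomorphism (`evHom`), compatibility with restriction, constants, basic opens;
* `pt` is injective, complex points = closed points (X locally of finite type over ℂ);
-/

set_option autoImplicit false
open CategoryTheory AlgebraicGeometry Topology TopologicalSpace Opposite

noncomputable section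

namespace Groth.Agent.An.H863.PtsBasic

variable {X : Scheme.{0}} [X.Over An.SC]

/-- Evaluation at a point, as a ring homomorphism. -/
def evHom (x : An.Pts X) (U : X.Opens) (h : x.pt ∈ U) : Γ(X, U) →+* ℂ :=
  (Scheme.ΓSpecIso (CommRingCat.of ℂ)).hom.hom.comp
    (x.1.appLE U ⊤ (An.Pts.top_le_preimage x h)).hom

lemma evHom_apply (x : An.Pts X) (U : X.Opens) (h : x.pt ∈ U) (f : Γ(X, U)) :
    evHom x U h f = x.ev U h f := rfl

section ring
variable (x : An.Pts X) (U : X.Opens) (h : x.pt ∈ U)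

@[simp] lemma ev_zero : x.ev U h 0 = 0 := map_zero (evHom x U h)
@[simp] lemma ev_one : x.ev U h 1 = 1 := map_one (evHom x U h)
@[simp] lemma ev_add (f g : Γ(X, U)) : x.ev U h (f + g) = x.ev U h f + x.ev U h g :=
  map_add (evHom x U h) f g
@[simp] lemma ev_mul (f g : Γ(X, U)) : x.ev U h (f * g) = x.ev U h f * x.ev U h g :=
  map_mul (evHom x U h) f g
@[simp] lemma ev_neg (f : Γ(X, U)) : x.ev U h (-f) = -x.ev U h f := map_neg (evHom x U h) f
@[simp] lemma ev_sub (f g : Γ(X, U)) : x.ev U h (f - g) = x.ev U h f - x.ev U h g :=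
  map_sub (evHom x U h) f g
@[simp] lemma ev_pow (f : Γ(X, U)) (n : ℕ) : x.ev U h (f ^ n) = x.ev U h f ^ n :=
  map_pow (evHom x U h) f n

end ring

/-- Evaluation is compatible with restriction of sections. -/
lemma ev_res (x : An.Pts X) {U V : X.Opens} (i : V ≤ U) (h : x.pt ∈ V) (f : Γ(X, U)) :
    x.ev V h (X.presheaf.map (homOfLE i).op f) = x.ev U (i h) f := by
  unfold An.Pts.ev
  congr 1
  rw [← ConcreteCategory.comp_apply, Scheme.Hom.map_appLE]

lemma ev_map_op (x : An.Pts X) {U V : X.Opens} (i : V ⟶ U) (h : x.pt ∈ V) (f : Γ(X, U)) :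
    x.ev V h (X.presheaf.map i.op f) = x.ev U (i.le h) f := ev_res x i.le h f

/-- Evaluation at a point of the image of a section under an isomorphism of scheme structure:
the value is determined by the underlying morphism. -/
lemma ev_congr {x y : An.Pts X} (hxy : x = y) {U : X.Opens} (hx : x.pt ∈ U) (f : Γ(X, U)) :
    x.ev U hx f = y.ev U (hxy ▸ hx) f := by
  subst hxy; rfl

/-- Constants evaluate to themselves. -/
lemma evTop_strHom (x : An.Pts X) (c : ℂ) : x.evTop (An.strHom X c) = c := by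
  unfold An.Pts.evTop An.Pts.ev An.strHom
  have h1 : (X ↘ An.SC).appTop ≫ x.1.appLE ⊤ ⊤ (An.Pts.top_le_preimage x (Opens.mem_top _)) = 𝟙 _ := by
    obtain ⟨x, hx⟩ := x
    have h2 : x.appLE ⊤ ⊤ le_top = x.appTop := by
      simp [Scheme.Hom.appLE, Scheme.Hom.appTop]
    change (X ↘ An.SC).appTop ≫ x.appLE ⊤ ⊤ le_top = 𝟙 _
    rw [h2, ← Scheme.Hom.comp_appTop, hx]
    simp
  have h3 : (x.1.appLE ⊤ ⊤ (An.Pts.top_le_preimage x (Opens.mem_top _)))
      ((X ↘ An.SC).appTop ((Scheme.ΓSpecIso (CommRingCat.of ℂ)).inv c)) =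
        (Scheme.ΓSpecIso (CommRingCat.of ℂ)).inv c := by
    rw [← ConcreteCategory.comp_apply, h1]; rfl
  change (Scheme.ΓSpecIso (CommRingCat.of ℂ)).hom ((x.1.appLE ⊤ ⊤ _)
      ((X ↘ An.SC).appTop ((Scheme.ΓSpecIso (CommRingCat.of ℂ)).inv c))) = c
  rw [h3, ← ConcreteCategory.comp_apply, Iso.inv_hom_id]
  rfl

/-- The structure map ℂ → Γ(X, U) on an open. -/
def strU (U : X.Opens) : ℂ →+* Γ(X, U) :=
  (X.presheaf.map (homOfLE (le_top : U ≤ ⊤)).op).hom.comp (An.strHom X)

@[simp] lemma ev_strU (x : An.Pts X) (U : X.Opens) (h : x.pt ∈ U) (c : ℂ) :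
    x.ev U h (strU U c) = c := by
  change x.ev U h (X.presheaf.map (homOfLE le_top).op (An.strHom X c)) = c
  rw [ev_res x le_top h]
  exact evTop_strHom x c

lemma map_strU {U V : X.Opens} (i : V ≤ U) (c : ℂ) :
    X.presheaf.map (homOfLE i).op (strU U c) = strU V c := by
  change X.presheaf.map (homOfLE i).op (X.presheaf.map (homOfLE le_top).op (An.strHom X c)) =
    X.presheaf.map (homOfLE le_top).op (An.strHom X c)
  rw [← ConcreteCategory.comp_apply, ← X.presheaf.map_comp]
  rfl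

/-- The kernel of evaluation is determined by the underlying point: `f(x) ≠ 0` iff `x ∈ D(f)`. -/
lemma ev_ne_zero_iff (x : An.Pts X) (U : X.Opens) (h : x.pt ∈ U) (f : Γ(X, U)) :
    x.ev U h f ≠ 0 ↔ x.pt ∈ X.basicOpen f := by
  have key : x.1 ⁻¹ᵁ (X.basicOpen f) =
      An.SC.basicOpen (x.1.appLE U ⊤ (An.Pts.top_le_preimage x h) f) := by
    refine ((Scheme.basicOpen_appLE x.1 ⊤ U _ f).trans ?_).symm
    exact top_inf_eq _
  have h1 : x.pt ∈ X.basicOpen f ↔
      An.cpt ∈ An.SC.basicOpen (x.1.appLE U ⊤ (An.Pts.top_le_preimage x h) f) := by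
    rw [← key]; rfl
  rw [h1]
  set g := x.1.appLE U ⊤ (An.Pts.top_le_preimage x h) f with hg
  have h3 : x.ev U h f = (Scheme.ΓSpecIso (CommRingCat.of ℂ)).hom g := rfl
  have h4 : g = (Scheme.ΓSpecIso (CommRingCat.of ℂ)).inv (x.ev U h f) := by
    rw [h3, ← ConcreteCategory.comp_apply, Iso.hom_inv_id]; rfl
  constructor
  · intro hne
    have : IsUnit g := by
      rw [h4]
      exact (IsUnit.mk0 (x.ev U h f) hne).map (Scheme.ΓSpecIso (CommRingCat.of ℂ)).inv.hom
    rw [Scheme.basicOpen_of_isUnit _ this]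
    trivial
  · intro hmem hzero
    rw [h4, hzero, map_zero, Scheme.basicOpen_zero] at hmem
    exact hmem

lemma ev_eq_zero_iff (x : An.Pts X) (U : X.Opens) (h : x.pt ∈ U) (f : Γ(X, U)) :
    x.ev U h f = 0 ↔ x.pt ∉ X.basicOpen f := by
  rw [← ev_ne_zero_iff x U h f, not_not]

/-- Two complex points with the same underlying point are equal. (No finiteness needed.) -/
lemma pt_injective : Function.Injective (An.Pts.pt : An.Pts X → X) := by
  rintro ⟨x, hx⟩ ⟨y, hy⟩ hxy
  change x An.cpt = y An.cpt at hxy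
  have key : ∀ (p : X) (z : An.SC ⟶ X) (_ : z An.cpt = p),
      ∃ φ : X.residueField p ⟶ .of ℂ, z = Spec.map φ ≫ X.fromSpecResidueField p := by
    intro p z hz
    have hz' : z (IsLocalRing.closedPoint ℂ) = p := by
      rw [An.eq_cpt (IsLocalRing.closedPoint ℂ)]; exact hz
    subst hz'
    exact ⟨_, (Scheme.descResidueField_stalkClosedPointTo_fromSpecResidueField ℂ X z).symm⟩
  obtain ⟨φ, hφ⟩ := key _ x rfl
  obtain ⟨φ', hφ'⟩ := key _ y hxy.symm
  let ψ : CommRingCat.of ℂ ⟶ X.residueField (x An.cpt) :=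
    Spec.preimage (X.fromSpecResidueField (x An.cpt) ≫ X ↘ An.SC)
  have h1 : ψ ≫ φ = 𝟙 _ := by
    apply Spec.map_injective
    rw [Spec.map_comp, Spec.map_preimage, ← Category.assoc, ← hφ, hx, Spec.map_id]
  have h2 : ψ ≫ φ' = 𝟙 _ := by
    apply Spec.map_injective
    rw [Spec.map_comp, Spec.map_preimage, ← Category.assoc, ← hφ', hy, Spec.map_id]
  have hsurj : ∀ a, ψ (φ a) = a := by
    intro a
    have hinj : Function.Injective φ := φ.hom.injective
    apply hinj
    change (ψ ≫ φ) (φ a) = φ a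
    rw [h1]
    rfl
  have h3 : φ = φ' := by
    ext a
    have h4 : φ' (ψ (φ a)) = φ a := ConcreteCategory.congr_hom h2 (φ a)
    rw [hsurj] at h4
    exact h4.symm
  apply Subtype.ext
  change x = y
  rw [hφ, hφ', h3]

section finiteType
variable [LocallyOfFiniteType (X ↘ An.SC)]

/-- The point underlying a complex point is closed. -/
lemma isClosed_pt (x : An.Pts X) : IsClosed ({x.pt} : Set X) := by
  have := (pointEquivClosedPoint (X ↘ An.SC) ⟨x.1, x.2⟩).2
  rw [mem_closedPoints_iff] at this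
  have h2 : ((pointEquivClosedPoint (X ↘ An.SC) ⟨x.1, x.2⟩ : closedPoints X) : X) = x.pt := by
    change x.1 (IsLocalRing.closedPoint ℂ) = x.1 An.cpt
    rw [An.eq_cpt (IsLocalRing.closedPoint ℂ)]
  rwa [h2] at this

/-- Every closed point of a scheme locally of finite type over ℂ is the underlying point of a
complex point. -/
lemma exists_pt_eq (p : X) (hp : IsClosed ({p} : Set X)) : ∃ x : An.Pts X, x.pt = p :=
  ⟨⟨pointOfClosedPoint (X ↘ An.SC) p hp, pointOfClosedPoint_comp _ p hp⟩,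
    pointOfClosedPoint_apply (X ↘ An.SC) p hp _⟩

lemma range_pt : Set.range (An.Pts.pt : An.Pts X → X) = closedPoints X := by
  ext p
  exact ⟨by rintro ⟨x, rfl⟩; exact isClosed_pt x, fun hp => exists_pt_eq p hp⟩

variable (X) in
lemma jacobsonSpace : JacobsonSpace X :=
  LocallyOfFiniteType.jacobsonSpace (X ↘ An.SC)

/-- Every nonempty locally closed subset contains a complex point. -/
lemma exists_pt_mem_of_isLocallyClosed {Z : Set X} (hZ : IsLocallyClosed Z) (hne : Z.Nonempty) :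
    ∃ x : An.Pts X, x.pt ∈ Z := by
  have := jacobsonSpace X
  obtain ⟨p, hp, hp'⟩ := nonempty_inter_closedPoints hne hZ
  obtain ⟨x, rfl⟩ := exists_pt_eq p hp'
  exact ⟨x, hp⟩

lemma exists_pt_mem_of_isOpen {Z : Set X} (hZ : IsOpen Z) (hne : Z.Nonempty) :
    ∃ x : An.Pts X, x.pt ∈ Z := exists_pt_mem_of_isLocallyClosed hZ.isLocallyClosed hne

lemma exists_pt_mem_of_isClosed {Z : Set X} (hZ : IsClosed Z) (hne : Z.Nonempty) :
    ∃ x : An.Pts X, x.pt ∈ Z := exists_pt_mem_of_isLocallyClosed hZ.isLocallyClosed hne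

variable (X) in
lemma nonempty_iff : Nonempty X ↔ Nonempty (An.Pts X) := by
  constructor
  · rintro ⟨p⟩
    obtain ⟨x, -⟩ := exists_pt_mem_of_isOpen (X := X) isOpen_univ ⟨p, trivial⟩
    exact ⟨x⟩
  · rintro ⟨x⟩
    exact ⟨x.pt⟩

end finiteType

end Groth.Agent.An.H863.PtsBasic
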