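import Groth.Agent.An.H863.PtsPullback
import Groth.Agent.An.H871.Surj
import Mathlib.AlgebraicGeometry.Morphisms.Separated
import Mathlib.AlgebraicGeometry.Morphisms.Immersion
import Mathlib.Topology.SeparatedMap

/-!
# Separated morphisms on complex points
-/

set_option autoImplicit false
open CategoryTheory AlgebraicGeometry Topology TopologicalSpace Opposite Filter
open Groth.Agent.An.H863.PtsBasic Groth.Agent.An.H863.PtsPullback

noncomputable section

namespace Groth.Agent.An.H863.PtsSep

variable {X Y : Scheme.{0}} [X.Over An.SC] [Y.Over An.SC] (f : X ⟶ Y) [f.IsOver An.SC]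

instance diagonal_isOver : (Limits.pullback.diagonal f).IsOver An.SC :=
  ⟨by
    change Limits.pullback.diagonal f ≫ (Limits.pullback.fst f f ≫ X ↘ An.SC) = X ↘ An.SC
    rw [Limits.pullback.diagonal_fst_assoc]⟩

/-- The complex points in the image of the diagonal: both projections agree. -/
lemma pt_mem_range_diagonal_iff (z : An.Pts (Limits.pullback f f)) :
    z.pt ∈ Set.range (Limits.pullback.diagonal f) ↔
      An.Pts.map (Limits.pullback.fst f f) z = An.Pts.map (Limits.pullback.snd f f) z := by
  constructor
  · rintro ⟨p, hp⟩
    apply pt_injective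
    rw [An.Pts.pt_map, An.Pts.pt_map, ← hp, ← Scheme.Hom.comp_apply, ← Scheme.Hom.comp_apply,
      Limits.pullback.diagonal_fst, Limits.pullback.diagonal_snd]
  · intro h
    have hz : z = An.Pts.map (Limits.pullback.diagonal f)
        (An.Pts.map (Limits.pullback.fst f f) z) := by
      apply Subtype.ext
      apply Limits.pullback.hom_ext
      · change z.1 ≫ _ = ((z.1 ≫ Limits.pullback.fst f f) ≫ Limits.pullback.diagonal f) ≫ _
        simp
      · change z.1 ≫ _ = ((z.1 ≫ Limits.pullback.fst f f) ≫ Limits.pullback.diagonal f) ≫ _
        have h' : z.1 ≫ Limits.pullback.fst f f = z.1 ≫ Limits.pullback.snd f f :=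
          congrArg Subtype.val h
        simp [h']
    rw [hz, An.Pts.pt_map]
    exact ⟨_, rfl⟩

/-- `map f` is separated iff the trace of the diagonal on complex points is closed. -/
lemma isSeparatedMap_iff :
    IsSeparatedMap (An.Pts.map f) ↔
      IsClosed (An.Pts.pt ⁻¹' (Set.range (Limits.pullback.diagonal f)) :
        Set (An.Pts (Limits.pullback f f))) := by
  rw [isSeparatedMap_iff_isClosed_diagonal]
  have h : (An.Pts.pt ⁻¹' (Set.range (Limits.pullback.diagonal f)) :
        Set (An.Pts (Limits.pullback f f))) =
      homeo f f ⁻¹' (Function.pullbackDiagonal (An.Pts.map f)) := by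
    ext z
    exact pt_mem_range_diagonal_iff f z
  rw [h]
  exact (homeo f f).isClosed_preimage.symm

lemma isSeparatedMap_of_isSeparated [IsSeparated f] : IsSeparatedMap (An.Pts.map f) := by
  rw [isSeparatedMap_iff]
  exact (Scheme.Hom.isClosedEmbedding (Limits.pullback.diagonal f)).isClosed_range.preimage
    An.Pts.continuous_pt

section ft

variable [LocallyOfFiniteType (X ↘ An.SC)] [LocallyOfFiniteType (Y ↘ An.SC)]

instance locallyOfFiniteType_pullback :
    LocallyOfFiniteType (Limits.pullback f f ↘ An.SC) := by
  have := Groth.Agent.An.H871.Basic.locallyOfFiniteType_of_isOver f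
  change LocallyOfFiniteType (Limits.pullback.fst f f ≫ X ↘ An.SC)
  infer_instance

/-- If f is separated on complex points, it is separated; the input is that taking complex points
commutes with closure for the (locally constructible) image of the diagonal. -/
lemma isSeparated_of_isSeparatedMap
    (hcl : ∀ (Z : Scheme.{0}) [Z.Over An.SC] [LocallyOfFiniteType (Z ↘ An.SC)] (T : Set Z),
      IsLocallyConstructible T →
      (An.Pts.pt ⁻¹' closure T : Set (An.Pts Z)) = closure (An.Pts.pt ⁻¹' T))
    (h : IsSeparatedMap (An.Pts.map f)) : IsSeparated f := by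
  rw [isSeparatedMap_iff] at h
  have hnX := Groth.Agent.An.H871.Surj.isLocallyNoetherian X
  have hq : QuasiCompact (Limits.pullback.diagonal f) := inferInstance
  set T : Set (Limits.pullback f f :) := Set.range (Limits.pullback.diagonal f) with hT
  have hTc : IsLocallyConstructible T :=
    Groth.Agent.An.H871.Surj.isLocallyConstructible_range (Limits.pullback.diagonal f)
  have h1 := hcl _ T hTc
  rw [h.closure_eq] at h1
  have hlc : IsLocallyClosed T := (Limits.pullback.diagonal f).isLocallyClosed_range
  have hclosed : IsClosed (closure T \ T) := by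
    have := hlc.isOpen_coborder
    rw [coborder] at this
    exact isOpen_compl_iff.mp this
  have hT2 : IsClosed T := by
    by_contra hne
    have hne' : (closure T \ T).Nonempty := by
      by_contra hemp
      apply hne
      rw [Set.not_nonempty_iff_eq_empty, Set.diff_eq_empty] at hemp
      exact closure_subset_iff_isClosed.mp hemp
    obtain ⟨z, hz⟩ := exists_pt_mem_of_isClosed hclosed hne'
    have : z ∈ (An.Pts.pt ⁻¹' closure T : Set (An.Pts (Limits.pullback f f))) := hz.1
    rw [h1] at this
    exact hz.2 this
  exact ⟨.of_isPreimmersion _ hT2⟩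

end ft

end Groth.Agent.An.H863.PtsSep
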