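import Groth.Agent.An.H863.PtsSep
import Groth.Agent.An.H868.Clopen
import Groth.Agent.An.H871.Imm
import Mathlib.AlgebraicGeometry.Morphisms.FlatMono
import Mathlib.AlgebraicGeometry.Morphisms.Etale
import Mathlib.Topology.IsLocalHomeomorph

/-!
# Full faithfulness of complex points on etale schemes

* `hom_ext_of_pts`: two X-morphisms into an unramified X-scheme agreeing on complex points agree.
* `exists_hom`: a continuous map over X(ℂ) from U(ℂ) to V(ℂ), V etale and separated over X, comes
  from a morphism (conditional on `CONN`, i.e. on connectedness of complex points of affine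
  varieties).
-/

set_option autoImplicit false
open CategoryTheory AlgebraicGeometry Topology TopologicalSpace Opposite Filter
open Groth.Agent.An.H863.PtsBasic Groth.Agent.An.H863.PtsPullback Groth.Agent.An.H863.PtsSep

noncomputable section

namespace Groth.Agent.An.H863.FF

/-- An open subset containing all complex points is everything. -/
lemma opens_eq_top {X : Scheme.{0}} [X.Over An.SC] [LocallyOfFiniteType (X ↘ An.SC)]
    (W : X.Opens) (h : ∀ a : An.Pts X, a.pt ∈ W) : W = ⊤ := by
  by_contra hne
  have hne' : ((W : Set X)ᶜ).Nonempty := by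
    rw [Set.nonempty_compl]
    intro h'
    exact hne (Opens.ext h')
  obtain ⟨a, ha⟩ := exists_pt_mem_of_isClosed W.2.isClosed_compl hne'
  exact ha (h a)

lemma surjective_of_isOpenImmersion {X Y : Scheme.{0}} [Y.Over An.SC]
    [LocallyOfFiniteType (Y ↘ An.SC)] (j : X ⟶ Y) [IsOpenImmersion j]
    (h : ∀ a : An.Pts Y, a.pt ∈ Set.range j) : Surjective j := by
  have h1 := opens_eq_top j.opensRange (fun a => h a)
  refine ⟨fun y => ?_⟩
  have : y ∈ j.opensRange := by rw [h1]; trivial
  exact this

lemma isIso_of_isOpenImmersion {X Y : Scheme.{0}} [Y.Over An.SC]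
    [LocallyOfFiniteType (Y ↘ An.SC)] (j : X ⟶ Y) [IsOpenImmersion j]
    (h : ∀ a : An.Pts Y, a.pt ∈ Set.range j) : IsIso j := by
  have := surjective_of_isOpenImmersion j h
  have : Epi j.base := by
    rw [TopCat.epi_iff_surjective]
    exact this.1
  exact IsOpenImmersion.isIso j

/-- Two X-morphisms into an unramified X-scheme agreeing on complex points agree. -/
theorem hom_ext_of_pts {X U V : Scheme.{0}} [U.Over An.SC] [LocallyOfFiniteType (U ↘ An.SC)]
    (v : V ⟶ X) [FormallyUnramified v] [LocallyOfFiniteType v]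
    (g g' : U ⟶ V) (hg : g ≫ v = g' ≫ v) (h : ∀ a : An.Pts U, a.1 ≫ g = a.1 ≫ g') : g = g' := by
  let k : U ⟶ Limits.pullback v v := Limits.pullback.lift g g' hg
  have hr : Set.range k ⊆ Set.range (Limits.pullback.diagonal v) := by
    have h1 := opens_eq_top (k ⁻¹ᵁ (Limits.pullback.diagonal v).opensRange) (fun a => by
      obtain ⟨a, ha⟩ := a
      have h0 : a ≫ g = a ≫ g' := h ⟨a, ha⟩
      change k (a An.cpt) ∈ Set.range (Limits.pullback.diagonal v)
      rw [← Scheme.Hom.comp_apply]
      have h2 : a ≫ k = (a ≫ g) ≫ Limits.pullback.diagonal v := by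
        apply Limits.pullback.hom_ext
        · rw [Category.assoc, Category.assoc, Limits.pullback.diagonal_fst, Category.comp_id]
          exact congrArg (a ≫ ·) (Limits.pullback.lift_fst _ _ _)
        · rw [Category.assoc, Category.assoc, Limits.pullback.diagonal_snd, Category.comp_id, h0]
          exact congrArg (a ≫ ·) (Limits.pullback.lift_snd _ _ _)
      rw [h2, Scheme.Hom.comp_apply]
      exact ⟨_, rfl⟩)
    rintro _ ⟨p, rfl⟩
    have : p ∈ k ⁻¹ᵁ (Limits.pullback.diagonal v).opensRange := by rw [h1]; trivial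
    exact this
  have h3 := IsOpenImmersion.lift_fac (Limits.pullback.diagonal v) k hr
  have h4 : IsOpenImmersion.lift (Limits.pullback.diagonal v) k hr = g := by
    have h6 : (IsOpenImmersion.lift (Limits.pullback.diagonal v) k hr ≫
        Limits.pullback.diagonal v) ≫ Limits.pullback.fst v v = k ≫ Limits.pullback.fst v v := by
      rw [h3]
    rw [Category.assoc, Limits.pullback.diagonal_fst, Category.comp_id] at h6
    rw [h6]
    exact Limits.pullback.lift_fst _ _ _
  have h5 : IsOpenImmersion.lift (Limits.pullback.diagonal v) k hr = g' := by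
    have h6 : (IsOpenImmersion.lift (Limits.pullback.diagonal v) k hr ≫
        Limits.pullback.diagonal v) ≫ Limits.pullback.snd v v = k ≫ Limits.pullback.snd v v := by
      rw [h3]
    rw [Category.assoc, Limits.pullback.diagonal_snd, Category.comp_id] at h6
    rw [h6]
    exact Limits.pullback.lift_snd _ _ _
  rw [← h4, h5]

/-- An etale morphism that is bijective on complex points is an isomorphism. -/
theorem isIso_of_etale_of_bijective {W U : Scheme.{0}} [W.Over An.SC] [U.Over An.SC]
    [LocallyOfFiniteType (W ↘ An.SC)] [LocallyOfFiniteType (U ↘ An.SC)] (p : W ⟶ U)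
    [p.IsOver An.SC] [Etale p]
    (hinj : Function.Injective (An.Pts.map p)) (hsurj : Function.Surjective (An.Pts.map p)) :
    IsIso p := by
  have hiso : IsIso (Limits.pullback.diagonal p) := by
    refine isIso_of_isOpenImmersion (Limits.pullback.diagonal p) fun z => ?_
    rw [pt_mem_range_diagonal_iff]
    apply hinj
    exact An.Pts.map_pullback_condition p p z
  have hmono : Mono p := (Limits.pullback.isIso_diagonal_iff p).1 hiso
  have hop : IsOpenImmersion p := IsOpenImmersion.of_flat_of_mono p
  refine isIso_of_isOpenImmersion p fun a => ?_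
  obtain ⟨b, rfl⟩ := hsurj a
  rw [An.Pts.pt_map]
  exact ⟨_, rfl⟩

section full

variable {X U V : Scheme.{0}} [X.Over An.SC] [U.Over An.SC] [V.Over An.SC]
  [LocallyOfFiniteType (U ↘ An.SC)]
  (u : U ⟶ X) (v : V ⟶ X) [u.IsOver An.SC] [v.IsOver An.SC] [Etale v] [IsSeparated v]

/-- A continuous map over X(ℂ) from U(ℂ) to V(ℂ), V etale and separated over X, comes from a
morphism over X. -/
theorem exists_hom (hC : Groth.Agent.An.H868.AlgRed.CONN)
    (hlh : IsLocallyInjective (An.Pts.map v)) (φ : An.Pts U → An.Pts V) (hφ : Continuous φ)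
    (hover : ∀ a, An.Pts.map v (φ a) = An.Pts.map u a) :
    ∃ g : U ⟶ V, g ≫ v = u ∧ ∀ a : An.Pts U, a.1 ≫ g = (φ a).1 := by
  let W := Limits.pullback u v
  let p : W ⟶ U := Limits.pullback.fst u v
  let q : W ⟶ V := Limits.pullback.snd u v
  have hpO : p.IsOver An.SC := inferInstanceAs ((Limits.pullback.fst u v).IsOver An.SC)
  have hqO : q.IsOver An.SC := inferInstanceAs ((Limits.pullback.snd u v).IsOver An.SC)
  have hpE : Etale p := inferInstanceAs (Etale (Limits.pullback.fst u v))
  have hWft : LocallyOfFiniteType (W ↘ An.SC) := by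
    change LocallyOfFiniteType (p ≫ U ↘ An.SC)
    infer_instance
  -- the graph
  let S : Set (An.Pts W) := {z | φ (An.Pts.map p z) = An.Pts.map q z}
  have hcomp : An.Pts.map v ∘ (fun z => φ (An.Pts.map p z)) =
      An.Pts.map v ∘ (fun z => An.Pts.map q z) := by
    funext z
    change An.Pts.map v (φ (An.Pts.map p z)) = An.Pts.map v (An.Pts.map q z)
    rw [hover]
    exact An.Pts.map_pullback_condition u v z
  have hc1 : Continuous (fun z : An.Pts W => φ (An.Pts.map p z)) :=
    hφ.comp (An.Pts.continuous_map p)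
  have hc2 : Continuous (fun z : An.Pts W => An.Pts.map q z) := An.Pts.continuous_map q
  have hSclosed : IsClosed S :=
    (isSeparatedMap_of_isSeparated v).isClosed_eqLocus hc1 hc2 hcomp
  have hSopen : IsOpen S := hlh.isOpen_eqLocus hc1 hc2 hcomp
  obtain ⟨W₀, hW₀, hSW⟩ := Groth.Agent.An.H868.Clopen.exists_isClopen hC ⟨hSclosed, hSopen⟩
  let W₁ : W.Opens := ⟨W₀, hW₀.2⟩
  have hp1O : (W₁.ι ≫ p).IsOver An.SC := inferInstance
  have hW1ft : LocallyOfFiniteType (W₁.toScheme ↘ An.SC) := by
    have : (W₁.toScheme ↘ An.SC) = W₁.ι ≫ (W ↘ An.SC) := (comp_over W₁.ι An.SC).symm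
    rw [this]
    infer_instance
  have hrange : ∀ z : An.Pts W, z ∈ S ↔ ∃ t : An.Pts W₁.toScheme, An.Pts.map W₁.ι t = z := by
    intro z
    constructor
    · intro hz
      have hz' : z.pt ∈ W₀ := by
        have : z ∈ (An.Pts.pt ⁻¹' W₀ : Set (An.Pts W)) := by rw [← hSW]; exact hz
        exact this
      have hz'' : z ∈ Set.range (An.Pts.map W₁.ι) := by
        rw [Groth.Agent.An.H871.Imm.range_map_ι W₁]
        exact hz'
      exact hz''
    · rintro ⟨t, rfl⟩
      rw [hSW]
      change (An.Pts.map W₁.ι t).pt ∈ W₀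
      rw [An.Pts.pt_map]
      exact t.pt.2
  have hfst_inj : ∀ z z' : An.Pts W, z ∈ S → z' ∈ S → An.Pts.map p z = An.Pts.map p z' → z = z' := by
    intro z z' hz hz' h
    have h2 : An.Pts.map q z = An.Pts.map q z' := by
      rw [← (show φ (An.Pts.map p z) = An.Pts.map q z from hz),
        ← (show φ (An.Pts.map p z') = An.Pts.map q z' from hz'), h]
    apply Subtype.ext
    apply Limits.pullback.hom_ext
    · exact congrArg Subtype.val h
    · exact congrArg Subtype.val h2
  have hiso : IsIso (W₁.ι ≫ p) := by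
    refine isIso_of_etale_of_bijective (W₁.ι ≫ p) ?_ ?_
    · intro t t' h
      rw [An.Pts.map_comp, An.Pts.map_comp] at h
      have := hfst_inj _ _ ((hrange _).2 ⟨t, rfl⟩) ((hrange _).2 ⟨t', rfl⟩) h
      apply Subtype.ext
      rw [← cancel_mono W₁.ι]
      exact congrArg Subtype.val this
    · intro a
      let z : An.Pts W := lift u v ⟨(a, φ a), (hover a).symm⟩
      have hz1 : An.Pts.map p z = a := map_fst_lift u v _
      have hz2 : An.Pts.map q z = φ a := map_snd_lift u v _
      have hz : z ∈ S := by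
        change φ (An.Pts.map p z) = An.Pts.map q z
        rw [hz1, hz2]
      obtain ⟨t, ht⟩ := (hrange z).1 hz
      exact ⟨t, by rw [An.Pts.map_comp, ht, hz1]⟩
  refine ⟨inv (W₁.ι ≫ p) ≫ W₁.ι ≫ q, ?_, ?_⟩
  · have : q ≫ v = p ≫ u := Limits.pullback.condition.symm
    rw [Category.assoc, Category.assoc, this, ← Category.assoc W₁.ι, IsIso.inv_hom_id_assoc]
  · intro a
    let z : An.Pts W := lift u v ⟨(a, φ a), (hover a).symm⟩
    have hz1 : An.Pts.map p z = a := map_fst_lift u v _
    have hz2 : An.Pts.map q z = φ a := map_snd_lift u v _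
    have hz : z ∈ S := by
      change φ (An.Pts.map p z) = An.Pts.map q z
      rw [hz1, hz2]
    obtain ⟨t, ht⟩ := (hrange z).1 hz
    have h1 : t.1 ≫ (W₁.ι ≫ p) = a.1 := by
      have h3 : An.Pts.map p (An.Pts.map W₁.ι t) = a := by rw [ht, hz1]
      have h4 := congrArg Subtype.val h3
      rw [← Category.assoc]
      exact h4
    have h2 : (t.1 ≫ W₁.ι) ≫ q = (φ a).1 := by
      have h3 : An.Pts.map q (An.Pts.map W₁.ι t) = φ a := by rw [ht, hz2]
      exact congrArg Subtype.val h3
    rw [← h1, Category.assoc, IsIso.hom_inv_id_assoc, ← Category.assoc]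
    exact h2

end full

end Groth.Agent.An.H863.FF
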