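import Groth.Agent.An.H863.FF
import Groth.Prelude.Def_AnEps

/-!
# Full faithfulness of `An.eps`, assuming `CONN`
-/

set_option autoImplicit false
open CategoryTheory AlgebraicGeometry Topology TopologicalSpace Opposite Filter

noncomputable section

namespace Groth.Agent.An.H863.FFFinal

variable (X : Scheme.{0}) [X.Over An.SC] [LocallyOfFiniteType (X ↘ An.SC)]

lemma locallyOfFiniteType_left (U : X.Etale) : LocallyOfFiniteType (U.left ↘ An.SC) := by
  change LocallyOfFiniteType ((U.left ↘ X) ≫ X ↘ An.SC)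
  have : Etale (U.left ↘ X) := U.prop
  infer_instance

variable [Fact An.EtaleLH]

theorem faithful : (An.eps X).Faithful := by
  refine ⟨fun {U V} g g' h => ?_⟩
  have := locallyOfFiniteType_left X U
  have hV : Etale (V.left ↘ X) := V.prop
  have h1 : g.left = g'.left := by
    refine Groth.Agent.An.H863.FF.hom_ext_of_pts (X := X) (V.left ↘ X) g.left g'.left ?_ ?_
    · exact (Over.w g.hom).trans (Over.w g'.hom).symm
    · intro a
      exact congrArg Subtype.val (congrFun (congrArg An.Cl.Hom.toFun h) a)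
  exact MorphismProperty.Over.Hom.ext h1

theorem full (hC : Groth.Agent.An.H868.AlgRed.CONN) (U V : X.Etale) [IsSeparated (V.left ↘ X)] :
    Function.Surjective ((An.eps X).map : (U ⟶ V) → ((An.eps X).obj U ⟶ (An.eps X).obj V)) := by
  intro φ
  have := locallyOfFiniteType_left X U
  have hV : Etale (V.left ↘ X) := V.prop
  have hlh : IsLocalHomeomorph (An.Pts.map (V.left ↘ X)) :=
    (Fact.out : An.EtaleLH) V.left X (V.left ↘ X)
  obtain ⟨g, hg, hg'⟩ := Groth.Agent.An.H863.FF.exists_hom (U.left ↘ X) (V.left ↘ X) hC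
    hlh.isLocallyInjective φ.toFun φ.continuous φ.over
  refine ⟨MorphismProperty.Over.homMk g hg, ?_⟩
  apply An.Cl.hom_ext
  funext a
  exact Subtype.ext (hg' a)

theorem main (hC : Groth.Agent.An.H868.AlgRed.CONN) :
    (∀ (U V : X.Etale) [IsSeparated (V.left ↘ X)],
        Function.Surjective ((An.eps X).map : (U ⟶ V) → ((An.eps X).obj U ⟶ (An.eps X).obj V))) ∧
      (An.eps X).Faithful :=
  ⟨fun U V _ => full X hC U V, faithful X⟩

end Groth.Agent.An.H863.FFFinal
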